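import Mathlib.Algebra.Module.Projective
import Mathlib.RingTheory.Flat.Basic
import Mathlib.LinearAlgebra.TensorProduct.Prod
import Mathlib.LinearAlgebra.TensorProduct.RightExactness
import Mathlib.RingTheory.TensorProduct.Basic

/-! # Elementwise mapping cones of sequences of modules, and their base change -/

set_option autoImplicit false
universe u

open TensorProduct

namespace Groth.PerfSize

section Cone

variable {S : Type u} [CommRing S] {Q E P : ℤ → Type u}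
  [∀ l, AddCommGroup (Q l)] [∀ l, Module S (Q l)] [∀ l, AddCommGroup (E l)] [∀ l, Module S (E l)]
  [∀ l, AddCommGroup (P l)] [∀ l, Module S (P l)]
  (dQ : ∀ l, Q l →ₗ[S] Q (l + 1)) (dE : ∀ l, E l →ₗ[S] E (l + 1))
  (dP : ∀ l, P l →ₗ[S] P (l + 1))
  (ψ : ∀ l, Q l →ₗ[S] E l) (h : ∀ l, E l →ₗ[S] P l)

/-- The differential of the cone. -/
def coneD (l : ℤ) : Q (l + 1) × E l →ₗ[S] Q (l + 1 + 1) × E (l + 1) :=
  ((-dQ (l + 1)) ∘ₗ LinearMap.fst S _ _).prod
    (ψ (l + 1) ∘ₗ LinearMap.fst S _ _ + dE l ∘ₗ LinearMap.snd S _ _)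

theorem coneD_apply (l : ℤ) (x : Q (l + 1)) (e : E l) :
    coneD dQ dE ψ l (x, e) = (-dQ (l + 1) x, ψ (l + 1) x + dE l e) := rfl

theorem coneD_coneD (hQ : ∀ l x, dQ (l + 1) (dQ l x) = 0) (hE : ∀ l x, dE (l + 1) (dE l x) = 0)
    (hψ : ∀ l x, ψ (l + 1) (dQ l x) = dE l (ψ l x)) (l : ℤ) (z : Q (l + 1) × E l) :
    coneD dQ dE ψ (l + 1) (coneD dQ dE ψ l z) = 0 := by
  obtain ⟨x, e⟩ := z
  simp [coneD_apply, map_neg, map_add, hQ, hE, hψ]

/-- The map of cones induced by `h`. -/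
def coneMap (l : ℤ) : Q (l + 1) × E l →ₗ[S] Q (l + 1) × P l := LinearMap.id.prodMap (h l)

theorem coneMap_comm (hh : ∀ l e, h (l + 1) (dE l e) = dP l (h l e)) (l : ℤ)
    (z : Q (l + 1) × E l) :
    coneMap h (l + 1) (coneD dQ dE ψ l z) =
      coneD dQ dP (fun l => h l ∘ₗ ψ l) l (coneMap h l z) := by
  obtain ⟨x, e⟩ := z
  simp [coneD_apply, coneMap, hh]

/-- Element form of "`h` is surjective on cohomology". -/
def HSurj : Prop := ∀ (l : ℤ) (p : P (l + 1)), dP (l + 1) p = 0 →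
  ∃ e : E (l + 1), dE (l + 1) e = 0 ∧ ∃ p' : P l, p = h (l + 1) e + dP l p'

/-- Element form of "`h` is injective on cohomology". -/
def HInj : Prop := ∀ (l : ℤ) (e : E (l + 1)), dE (l + 1) e = 0 → ∀ p : P l,
  h (l + 1) e = dP l p → ∃ f : E l, dE l f = e

variable {dQ dE dP ψ h}

theorem cone_surj (hψ : ∀ l x, ψ (l + 1) (dQ l x) = dE l (ψ l x))
    (hh : ∀ l e, h (l + 1) (dE l e) = dP l (h l e))
    (hs : HSurj dE dP h) (hi : HInj dE dP h) (l : ℤ) (z' : Q (l + 1 + 1) × P (l + 1))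
    (hz : coneD dQ dP (fun l => h l ∘ₗ ψ l) (l + 1) z' = 0) :
    ∃ z, coneD dQ dE ψ (l + 1) z = 0 ∧
      ∃ y, z' = coneMap h (l + 1) z + coneD dQ dP (fun l => h l ∘ₗ ψ l) l y := by
  obtain ⟨x, p⟩ := z'
  simp only [coneD_apply, Prod.mk_eq_zero, LinearMap.comp_apply, neg_eq_zero] at hz
  obtain ⟨hx, hp⟩ := hz
  obtain ⟨f, hf⟩ := hi (l + 1) (ψ (l + 1 + 1) x)
    (by rw [← hψ, hx, map_zero]) (-p) (by rw [map_neg]; exact eq_neg_of_add_eq_zero_left hp)
  have hq : dP (l + 1) (p + h (l + 1) f) = 0 := by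
    rw [map_add, ← hh, hf]; exact (add_comm _ _).trans hp
  obtain ⟨e, he, p', hp'⟩ := hs l _ hq
  refine ⟨(x, e - f), ?_, (0, p'), ?_⟩
  · simp [coneD_apply, hx, map_sub, he, hf]
  · have : p = h (l + 1) e + dP l p' - h (l + 1) f := by rw [← hp']; abel
    simp [coneD_apply, coneMap, map_sub, this]
    abel

theorem cone_inj (hψ : ∀ l x, ψ (l + 1) (dQ l x) = dE l (ψ l x))
    (hi : HInj dE dP h) (l : ℤ) (z : Q (l + 1 + 1) × E (l + 1))
    (hz : coneD dQ dE ψ (l + 1) z = 0) (y : Q (l + 1) × P l)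
    (hy : coneMap h (l + 1) z = coneD dQ dP (fun l => h l ∘ₗ ψ l) l y) :
    ∃ w, coneD dQ dE ψ l w = z := by
  obtain ⟨x, e⟩ := z
  obtain ⟨q, p⟩ := y
  simp only [coneD_apply, coneMap, Prod.mk_eq_zero, Prod.mk.injEq, LinearMap.prodMap_apply,
    LinearMap.id_apply, LinearMap.comp_apply, neg_eq_zero] at hz hy
  obtain ⟨hx, hy⟩ := hy
  obtain ⟨-, he⟩ := hz
  obtain ⟨f, hf⟩ := hi l (e - ψ (l + 1) q)
    (by
      have h1 : ψ (l + 1 + 1) x = -dE (l + 1) (ψ (l + 1) q) := by rw [hx, map_neg, hψ]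
      rw [h1] at he
      rw [map_sub, ← he]; abel)
    p (by rw [map_sub, hy]; abel)
  exact ⟨(q, f), by simp [coneD_apply, hx, hf]⟩

end Cone

/-- Above a degree where a sequence of projectives is exact and eventually zero, the cycles are a
direct summand. -/
theorem exists_retraction {S : Type u} [CommRing S] {C : ℤ → Type u} [∀ l, AddCommGroup (C l)]
    [∀ l, Module S (C l)] [∀ l, Module.Projective S (C l)] (d : ∀ l, C l →ₗ[S] C (l + 1))
    (hdd : ∀ l x, d (l + 1) (d l x) = 0) (top j : ℤ)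
    (hzero : ∀ l, top < l → Subsingleton (C l))
    (hex : ∀ l, j < l → ∀ x, d (l + 1) x = 0 → ∃ y, d l y = x) (l : ℤ) (hl : j ≤ l) :
    ∃ r : C (l + 1) →ₗ[S] LinearMap.ker (d (l + 1)), ∀ z : LinearMap.ker (d (l + 1)), r z = z := by
  suffices H : ∀ (n : ℕ) (l : ℤ), top ≤ l + n → j ≤ l →
      ∃ r : C (l + 1) →ₗ[S] LinearMap.ker (d (l + 1)), ∀ z : LinearMap.ker (d (l + 1)), r z = z by
    exact H (top - l).toNat l (by omega) hl
  intro n
  induction n with
  | zero =>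
    intro l hl _
    have := hzero (l + 1) (by omega)
    exact ⟨0, fun z => Subsingleton.elim _ _⟩
  | succ n ih =>
    intro l hl hjl
    obtain ⟨r, hr⟩ := ih (l + 1) (by push_cast at hl; omega) (by omega)
    have hproj : Module.Projective S (LinearMap.ker (d (l + 1 + 1))) :=
      Module.Projective.of_split (LinearMap.ker (d (l + 1 + 1))).subtype r (LinearMap.ext hr)
    let d' : C (l + 1) →ₗ[S] LinearMap.ker (d (l + 1 + 1)) :=
      (d (l + 1)).codRestrict _ fun x => LinearMap.mem_ker.2 (hdd (l + 1) x)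
    have hd' : Function.Surjective d' := fun z => by
      obtain ⟨y, hy⟩ := hex (l + 1) (by omega) z.1 z.2
      exact ⟨y, Subtype.ext hy⟩
    obtain ⟨σ, hσ⟩ := Module.projective_lifting_property d' LinearMap.id hd'
    refine ⟨(LinearMap.id - σ ∘ₗ d').codRestrict _ fun x => LinearMap.mem_ker.2 ?_, fun z => ?_⟩
    · apply Subtype.ext
      have : d' z.1 = 0 := Subtype.ext (LinearMap.mem_ker.1 z.2)
      simp [this]
    · have : d' (σ (d' x)) = d' x := LinearMap.congr_fun hσ (d' x)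
      have h2 : d (l + 1) (σ (d' x)) = d (l + 1) x := congrArg Subtype.val this
      simp [h2]

section BaseChange

variable {R : Type u} [CommRing R] (B : Type u) [CommRing B] [Algebra R B] [Module.Flat R B]

/-- If a map of base-changed three term complexes is bijective on homology, the base change of the
middle homology is the homology of the target. -/
theorem exists_homology_equiv {C₀ C₁ C₂ : Type u} [AddCommGroup C₀] [Module R C₀] [AddCommGroup C₁]
    [Module R C₁] [AddCommGroup C₂] [Module R C₂] {D₀ D₁ D₂ : Type u} [AddCommGroup D₀]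
    [Module B D₀] [AddCommGroup D₁] [Module B D₁] [AddCommGroup D₂] [Module B D₂]
    (d₁ : C₀ →ₗ[R] C₁) (d₂ : C₁ →ₗ[R] C₂) (h21 : ∀ x, d₂ (d₁ x) = 0)
    (e₁ : D₀ →ₗ[B] D₁) (e₂ : D₁ →ₗ[B] D₂) (he : ∀ x, e₂ (e₁ x) = 0)
    (t₀ : B ⊗[R] C₀ →ₗ[B] D₀) (t₁ : B ⊗[R] C₁ →ₗ[B] D₁) (t₂ : B ⊗[R] C₂ →ₗ[B] D₂)
    (hc₁ : ∀ x, t₁ (d₁.baseChange B x) = e₁ (t₀ x))
    (hc₂ : ∀ x, t₂ (d₂.baseChange B x) = e₂ (t₁ x))
    (hs : ∀ z', e₂ z' = 0 → ∃ z, d₂.baseChange B z = 0 ∧ ∃ y, z' = t₁ z + e₁ y)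
    (hi : ∀ z, d₂.baseChange B z = 0 → ∀ y, t₁ z = e₁ y → ∃ w, d₁.baseChange B w = z) :
    Nonempty ((B ⊗[R] (LinearMap.ker d₂ ⧸
        LinearMap.range (d₁.codRestrict _ fun x => LinearMap.mem_ker.2 (h21 x)))) ≃ₗ[B]
      (LinearMap.ker e₂ ⧸
        LinearMap.range (e₁.codRestrict _ fun x => LinearMap.mem_ker.2 (he x)))) := by
  set d' := d₁.codRestrict (LinearMap.ker d₂) fun x => LinearMap.mem_ker.2 (h21 x) with hd'
  set e' := e₁.codRestrict (LinearMap.ker e₂) fun x => LinearMap.mem_ker.2 (he x) with he'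
  let ι := (LinearMap.ker d₂).subtype
  have hex : Function.Exact (ι.baseChange B) (d₂.baseChange B) :=
    Module.Flat.lTensor_exact B (LinearMap.exact_subtype_ker_map d₂)
  have hιinj : Function.Injective (ι.baseChange B) :=
    Module.Flat.lTensor_preserves_injective_linearMap _ (Submodule.injective_subtype _)
  let T : B ⊗[R] LinearMap.ker d₂ →ₗ[B] LinearMap.ker e₂ ⧸ LinearMap.range e' :=
    (LinearMap.range e').mkQ ∘ₗ (t₁ ∘ₗ ι.baseChange B).codRestrict _ fun u =>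
      LinearMap.mem_ker.2 (by
        rw [LinearMap.comp_apply, ← hc₂, (hex _).2 ⟨u, rfl⟩, map_zero])
  have hT : Function.Surjective T := by
    intro q
    obtain ⟨⟨z', hz'⟩, rfl⟩ := Submodule.mkQ_surjective _ q
    obtain ⟨z, hz, y, hy⟩ := hs z' hz'
    obtain ⟨u, rfl⟩ := (hex z).1 hz
    refine ⟨u, (Submodule.Quotient.eq _).2 ⟨-y, Subtype.ext ?_⟩⟩
    simp [e', hy]
  let π := (LinearMap.range d').mkQ.baseChange B
  have hπ : Function.Surjective π := LinearMap.lTensor_surjective B (Submodule.mkQ_surjective _)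
  have hπex : Function.Exact (d'.baseChange B) π :=
    lTensor_exact B (LinearMap.exact_map_mkQ_range d') (Submodule.mkQ_surjective _)
  have hd'ι : ∀ w, ι.baseChange B (d'.baseChange B w) = d₁.baseChange B w := by
    intro w
    induction w using TensorProduct.induction_on with
    | zero => simp
    | tmul b x => simp [ι, d']
    | add x y hx hy => simp only [map_add, hx, hy]
  have hker : LinearMap.ker T = LinearMap.ker π := by
    ext u
    rw [LinearMap.mem_ker, LinearMap.mem_ker, hπex u]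
    constructor
    · intro hu
      obtain ⟨y, hy⟩ := (Submodule.Quotient.mk_eq_zero _).1 hu
      obtain ⟨w, hw⟩ := hi (ι.baseChange B u) ((hex _).2 ⟨u, rfl⟩) y
        (congrArg Subtype.val hy).symm
      exact ⟨w, hιinj ((hd'ι w).trans hw)⟩
    · rintro ⟨w, rfl⟩
      refine (Submodule.Quotient.mk_eq_zero _).2 ⟨t₀ w, Subtype.ext ?_⟩
      show e₁ (t₀ w) = t₁ (ι.baseChange B (d'.baseChange B w))
      rw [hd'ι, hc₁]
  exact ⟨((π.quotKerEquivOfSurjective hπ).symm.trans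
    (Submodule.quotEquivOfEq _ _ hker.symm)).trans (T.quotKerEquivOfSurjective hT)⟩

variable {Q E : ℤ → Type u} [∀ l, AddCommGroup (Q l)] [∀ l, Module R (Q l)]
  [∀ l, AddCommGroup (E l)] [∀ l, Module R (E l)]
  (dQ : ∀ l, Q l →ₗ[R] Q (l + 1)) (dE : ∀ l, E l →ₗ[R] E (l + 1)) (ψ : ∀ l, Q l →ₗ[R] E l)

/-- The base change of a term of the cone. -/
noncomputable abbrev coneBC (l : ℤ) :
    B ⊗[R] (Q (l + 1) × E l) ≃ₗ[B] (B ⊗[R] Q (l + 1)) × (B ⊗[R] E l) :=
  TensorProduct.prodRight R B B (Q (l + 1)) (E l)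

omit [Module.Flat R B] in
theorem coneBC_comm (l : ℤ) (z : B ⊗[R] (Q (l + 1) × E l)) :
    coneBC B (l + 1) ((coneD dQ dE ψ l).baseChange B z) =
      coneD (Q := fun l => B ⊗[R] Q l) (E := fun l => B ⊗[R] E l)
        (fun l => (dQ l).baseChange B) (fun l => (dE l).baseChange B)
        (fun l => (ψ l).baseChange B) l (coneBC B l z) := by
  induction z using TensorProduct.induction_on with
  | zero => simp
  | tmul b x =>
    obtain ⟨x, e⟩ := x
    simp [coneD_apply, TensorProduct.tmul_add, TensorProduct.tmul_neg]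
  | add x y hx hy => simp only [map_add, hx, hy]

end BaseChange

end Groth.PerfSize
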