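import Groth.Agent.PerfSize.Generation
import Groth.Agent.PerfSize.Cone
import Mathlib.RingTheory.Flat.EquationalCriterion
import Mathlib.LinearAlgebra.TensorProduct.Pi

/-! # A model of bounded size of a perfect complex of locally bounded size -/

set_option autoImplicit false
universe u

open TensorProduct

namespace Groth.PerfSize

open W4c5algebraiztannaka

/-- The number of generators, as a function of the distance to the top degree. -/
def gen (N : ℕ) : ℕ → ℕ
  | 0 => N * (0 + N)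
  | k + 1 => N * (gen N k + N)

/-- The rank of the model in degree `l`. -/
def rk (N : ℕ) (l : ℤ) : ℕ := if (N : ℤ) < l then 0 else gen N ((N : ℤ) - l).toNat

/-- The rank of the target in degree `l`. -/
def rkP (N : ℕ) (l : ℤ) : ℕ := if (N : ℤ) < l then 0 else N

theorem rk_step (N : ℕ) (j : ℤ) : N * (rk N (j + 1 + 1) + rkP N (j + 1)) ≤ rk N (j + 1) := by
  unfold rk rkP
  by_cases h : (N : ℤ) < j + 1
  · simp [h, show (N : ℤ) < j + 1 + 1 by omega]
  · simp only [h, if_false]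
    by_cases h' : (N : ℤ) < j + 1 + 1
    · have : ((N : ℤ) - (j + 1)).toNat = 0 := by omega
      simp [h', this, gen]
    · have : ((N : ℤ) - (j + 1)).toNat = ((N : ℤ) - (j + 1 + 1)).toNat + 1 := by omega
      simp [h', this, gen]

/-- The terms of the model. -/
abbrev Qf (R : Type u) (N : ℕ) (l : ℤ) : Type u := Fin (rk N l) → R

section Build

variable {R B : Type u} [CommRing R] [CommRing B] [Algebra R B] (N : ℕ)
  (hnis : IsNisCoverLen (specMap R B) N)
  {E : ℤ → Type u} [∀ l, AddCommGroup (E l)] [∀ l, Module R (E l)]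
  [∀ l, Module.Finite R (E l)] [∀ l, Module.Projective R (E l)]
  (dE : ∀ l, E l →ₗ[R] E (l + 1)) (hdE : ∀ l x, dE (l + 1) (dE l x) = 0)
  {P : ℤ → Type u} [∀ l, AddCommGroup (P l)] [∀ l, Module B (P l)]
  [∀ l, Module.Projective B (P l)] (dP : ∀ l, P l →ₗ[B] P (l + 1))
  (hdP : ∀ l x, dP (l + 1) (dP l x) = 0)
  (hPhi : ∀ l, (N : ℤ) < l → Subsingleton (P l))
  (hPlo : ∀ l, l < -(N : ℤ) → Subsingleton (P l))
  (hPgen : ∀ l, ∃ f : (Fin N → B) →ₗ[B] P l, Function.Surjective f)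
  (h : ∀ l, B ⊗[R] E l →ₗ[B] P l)
  (hh : ∀ l e, h (l + 1) ((dE l).baseChange B e) = dP l (h l e))
  (hs : HSurj (fun l => (dE l).baseChange B) dP h)
  (hi : HInj (fun l => (dE l).baseChange B) dP h)

/-- A partially built model: built in degrees `> j + 1`. -/
structure Stage (R : Type u) [CommRing R] (N : ℕ) {E : ℤ → Type u} [∀ l, AddCommGroup (E l)]
    [∀ l, Module R (E l)] (dE : ∀ l, E l →ₗ[R] E (l + 1)) (j : ℤ) where
  dQ : ∀ l, Qf R N l →ₗ[R] Qf R N (l + 1)
  ψ : ∀ l, Qf R N l →ₗ[R] E l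
  dQ_zero : ∀ l, l ≤ j + 1 → dQ l = 0
  ψ_zero : ∀ l, l ≤ j + 1 → ψ l = 0
  dd : ∀ l x, dQ (l + 1) (dQ l x) = 0
  comm : ∀ l x, ψ (l + 1) (dQ l x) = dE l (ψ l x)
  exact : ∀ l, j < l → ∀ z, coneD dQ dE ψ (l + 1) z = 0 → ∃ w, coneD dQ dE ψ l w = z

variable {dE dP h}

theorem subsingleton_Qf {l : ℤ} (hl : (N : ℤ) < l) : Subsingleton (Qf R N l) := by
  have : rk N l = 0 := if_pos hl
  show Subsingleton (Fin (rk N l) → R)
  rw [this]; infer_instance

/-- The cycles modulo boundaries in degree `j + 1` of the cone of a stage. -/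
abbrev Stage.W {j : ℤ} (S : Stage R N dE j) (hdE : ∀ l x, dE (l + 1) (dE l x) = 0) : Type u :=
  LinearMap.ker (coneD S.dQ dE S.ψ (j + 1)) ⧸ LinearMap.range
    ((coneD S.dQ dE S.ψ j).codRestrict (LinearMap.ker (coneD S.dQ dE S.ψ (j + 1)))
      fun x => LinearMap.mem_ker.2 (coneD_coneD _ _ _ S.dd hdE S.comm j x))

theorem Stage.retraction {j : ℤ} (S : Stage R N dE j) (hdE : ∀ l x, dE (l + 1) (dE l x) = 0)
    (b : ℤ) (hb : ∀ l, b < l → Subsingleton (E l)) :
    ∃ r : Qf R N (j + 1 + 1) × E (j + 1) →ₗ[R] LinearMap.ker (coneD S.dQ dE S.ψ (j + 1)),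
      ∀ z : LinearMap.ker (coneD S.dQ dE S.ψ (j + 1)), r z = z := by
  refine exists_retraction (C := fun l => Qf R N (l + 1) × E l) (coneD S.dQ dE S.ψ)
    (coneD_coneD _ _ _ S.dd hdE S.comm) (max N b) j (fun l hl => ?_) S.exact j le_rfl
  have := subsingleton_Qf (R := R) N (l := l + 1) (by omega)
  have := hb l (by omega)
  infer_instance

theorem Stage.finite_W {j : ℤ} (S : Stage R N dE j) (hdE : ∀ l x, dE (l + 1) (dE l x) = 0)
    (b : ℤ) (hb : ∀ l, b < l → Subsingleton (E l)) :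
    Module.Finite R (S.W N hdE) ∧ Module.FinitePresentation R (S.W N hdE) := by
  obtain ⟨r, hr⟩ := S.retraction N hdE b hb
  have hfin : Module.Finite R (LinearMap.ker (coneD S.dQ dE S.ψ (j + 1))) :=
    .of_surjective r fun z => ⟨z, hr z⟩
  have : Module.Projective R (LinearMap.ker (coneD S.dQ dE S.ψ (j + 1))) :=
    Module.Projective.of_split (Submodule.subtype _) r (LinearMap.ext hr)
  have : Module.FinitePresentation R (LinearMap.ker (coneD S.dQ dE S.ψ (j + 1))) :=
    Module.finitePresentation_of_projective _ _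
  refine ⟨inferInstance, Module.finitePresentation_of_surjective _
    (Submodule.mkQ_surjective _) ?_⟩
  rw [Submodule.ker_mkQ, LinearMap.range_eq_map]
  exact Module.Finite.fg_top.map _

include hnis hdE hdP hPhi hPlo hPgen hh hs hi in
theorem Stage.surjection_W {j : ℤ} (S : Stage R N dE j) (b : ℤ)
    (hb : ∀ l, b < l → Subsingleton (E l)) :
    (∃ π : Qf R N (j + 1) →ₗ[R] S.W N hdE, Function.Surjective π) ∧
      (j + 1 < -(N : ℤ) → Module.Projective R (S.W N hdE)) := by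
  have hflat : Module.Flat R B := flat_of_nis hnis
  have hff : Module.FaithfullyFlat R B := faithfullyFlat_of_nis hnis
  let dQB : ∀ l, B ⊗[R] Qf R N l →ₗ[B] B ⊗[R] Qf R N (l + 1) := fun l => (S.dQ l).baseChange B
  let dEB : ∀ l, B ⊗[R] E l →ₗ[B] B ⊗[R] E (l + 1) := fun l => (dE l).baseChange B
  let ψB : ∀ l, B ⊗[R] Qf R N l →ₗ[B] B ⊗[R] E l := fun l => (S.ψ l).baseChange B
  let hψB : ∀ l, B ⊗[R] Qf R N l →ₗ[B] P l := fun l => h l ∘ₗ ψB l
  have bc : ∀ {X Y Z : Type u} [AddCommGroup X] [Module R X] [AddCommGroup Y] [Module R Y]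
      [AddCommGroup Z] [Module R Z] (f : X →ₗ[R] Y) (g : Y →ₗ[R] Z) (x : B ⊗[R] X),
      g.baseChange B (f.baseChange B x) = (g ∘ₗ f).baseChange B x := fun f g x => by
    rw [LinearMap.baseChange_comp]; rfl
  have hQ : ∀ l x, dQB (l + 1) (dQB l x) = 0 := fun l x => by
    rw [bc, show S.dQ (l + 1) ∘ₗ S.dQ l = 0 from LinearMap.ext (S.dd l), LinearMap.baseChange_zero,
      LinearMap.zero_apply]
  have hE : ∀ l x, dEB (l + 1) (dEB l x) = 0 := fun l x => by
    rw [bc, show dE (l + 1) ∘ₗ dE l = 0 from LinearMap.ext (hdE l), LinearMap.baseChange_zero,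
      LinearMap.zero_apply]
  have hψ : ∀ l x, ψB (l + 1) (dQB l x) = dEB l (ψB l x) := fun l x => by
    rw [bc, bc, show S.ψ (l + 1) ∘ₗ S.dQ l = dE l ∘ₗ S.ψ l from LinearMap.ext (S.comm l)]
  let e : ∀ l, (B ⊗[R] Qf R N (l + 1)) × P l →ₗ[B] (B ⊗[R] Qf R N (l + 1 + 1)) × P (l + 1) :=
    coneD dQB dP hψB
  have hee : ∀ l z, e (l + 1) (e l z) = 0 := coneD_coneD dQB dP hψB hQ hdP fun l x => by
    show h (l + 1) (ψB (l + 1) (dQB l x)) = dP l (h l (ψB l x))
    rw [hψ, hh]
  let t : ∀ l, B ⊗[R] (Qf R N (l + 1) × E l) →ₗ[B] (B ⊗[R] Qf R N (l + 1)) × P l := fun l =>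
    coneMap (Q := fun l => B ⊗[R] Qf R N l) h l ∘ₗ (coneBC B (Q := Qf R N) (E := E) l).toLinearMap
  have hct : ∀ l x, t (l + 1) ((coneD S.dQ dE S.ψ l).baseChange B x) = e l (t l x) := fun l x => by
    show coneMap (Q := fun l => B ⊗[R] Qf R N l) h (l + 1) (coneBC B (l + 1) ((coneD S.dQ dE S.ψ l).baseChange B x)) = _
    rw [coneBC_comm]
    exact coneMap_comm dQB dEB dP ψB h hh l _
  have hts : ∀ l z', e (l + 1) z' = 0 → ∃ z, (coneD S.dQ dE S.ψ (l + 1)).baseChange B z = 0 ∧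
      ∃ y, z' = t (l + 1) z + e l y := fun l z' hz' => by
    obtain ⟨z, hz, y, hy⟩ := cone_surj (dQ := dQB) (ψ := ψB) hψ hh hs hi l z' hz'
    refine ⟨(coneBC B (l + 1)).symm z, (coneBC B (l + 1 + 1)).injective ?_, y, ?_⟩
    · rw [coneBC_comm, LinearEquiv.apply_symm_apply, map_zero]; exact hz
    · show z' = coneMap (Q := fun l => B ⊗[R] Qf R N l) h (l + 1) (coneBC B (l + 1) ((coneBC B (l + 1)).symm z)) + e l y
      rw [LinearEquiv.apply_symm_apply]; exact hy
  have hti : ∀ l z, (coneD S.dQ dE S.ψ (l + 1)).baseChange B z = 0 → ∀ y, t (l + 1) z = e l y →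
      ∃ w, (coneD S.dQ dE S.ψ l).baseChange B w = z := fun l z hz y hy => by
    obtain ⟨w, hw⟩ := cone_inj (dQ := dQB) (ψ := ψB) hψ hi l (coneBC B (l + 1) z)
      (by rw [← coneBC_comm, hz, map_zero]) y hy
    refine ⟨(coneBC B l).symm w, (coneBC B (l + 1)).injective ?_⟩
    rw [coneBC_comm, LinearEquiv.apply_symm_apply]; exact hw
  -- the target is exact above `j + 1`, so its cycles in degree `j + 1` are a direct summand
  have hex : ∀ l, j < l → ∀ z', e (l + 1) z' = 0 → ∃ y, e l y = z' := fun l hl z' hz' => by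
    obtain ⟨z, hz, y, hy⟩ := hts l z' hz'
    have hfe : Function.Exact (coneD S.dQ dE S.ψ l) (coneD S.dQ dE S.ψ (l + 1)) := fun x =>
      ⟨fun hx => S.exact l hl x hx, by
        rintro ⟨w, rfl⟩; exact coneD_coneD _ _ _ S.dd hdE S.comm l w⟩
    obtain ⟨w, hw⟩ := (Module.Flat.lTensor_exact B hfe z).1 hz
    refine ⟨t l w + y, ?_⟩
    rw [map_add, ← hct, show (coneD S.dQ dE S.ψ l).baseChange B w = z from hw, hy]
  obtain ⟨r, hr⟩ := exists_retraction (C := fun l => (B ⊗[R] Qf R N (l + 1)) × P l) e hee N j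
    (fun l hl => by
      have := subsingleton_Qf (R := R) N (l := l + 1) (by omega)
      have := hPhi l hl
      infer_instance) hex j le_rfl
  -- homology commutes with base change
  obtain ⟨eq⟩ := exists_homology_equiv B (coneD S.dQ dE S.ψ j) (coneD S.dQ dE S.ψ (j + 1))
    (coneD_coneD _ _ _ S.dd hdE S.comm j) (e j) (e (j + 1)) (hee j) (t j) (t (j + 1))
    (t (j + 1 + 1)) (hct j) (hct (j + 1)) (hts j) (hti j)
  refine ⟨?_, fun hj => ?_⟩
  · have := (S.finite_W N hdE b hb).1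
    obtain ⟨f, hf⟩ : ∃ f : (Fin (rkP N (j + 1)) → B) →ₗ[B] P (j + 1), Function.Surjective f := by
      by_cases hN : (N : ℤ) < j + 1
      · have := hPhi _ hN
        exact ⟨0, fun p => ⟨0, Subsingleton.elim _ _⟩⟩
      · rw [rkP, if_neg hN]; exact hPgen _
    let sp : (Fin (rk N (j + 1 + 1) + rkP N (j + 1)) → B) →ₗ[B]
        (Fin (rk N (j + 1 + 1)) → B) × (Fin (rkP N (j + 1)) → B) :=
      (LinearMap.funLeft B B (Fin.castAdd _)).prod (LinearMap.funLeft B B (Fin.natAdd _))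
    have hsp : Function.Surjective sp := fun ⟨u, v⟩ =>
      ⟨Fin.append u v, Prod.ext (funext fun i => Fin.append_left u v i)
        (funext fun i => Fin.append_right u v i)⟩
    let g : (Fin (rk N (j + 1 + 1) + rkP N (j + 1)) → B) →ₗ[B] B ⊗[R] S.W N hdE :=
      eq.symm.toLinearMap ∘ₗ Submodule.mkQ _ ∘ₗ r ∘ₗ
        ((TensorProduct.piScalarRight R B B (Fin (rk N (j + 1 + 1)))).symm.toLinearMap.prodMap f) ∘ₗ
          sp
    refine exists_surjective_of_nis hnis _ _ g ?_ _ (rk_step N j)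
    exact eq.symm.surjective.comp ((Submodule.mkQ_surjective _).comp
      ((show Function.Surjective r from fun z => ⟨z.1, hr z⟩).comp
        (((TensorProduct.piScalarRight R B B _).symm.surjective.prodMap hf).comp hsp)))
  · have := (S.finite_W N hdE b hb).2
    have : Module.Projective B (LinearMap.ker (e (j + 1))) :=
      Module.Projective.of_split (Submodule.subtype _) r (LinearMap.ext hr)
    have he0 : ∀ y, e j y = 0 := by
      rintro ⟨q, p⟩
      have := hPlo j (by omega)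
      simp [e, coneD_apply, dQB, hψB, ψB, S.dQ_zero (j + 1) le_rfl, S.ψ_zero (j + 1) le_rfl,
        Subsingleton.elim p 0]
    have : Module.Projective B (B ⊗[R] S.W N hdE) :=
      Module.Projective.of_equiv ((Submodule.quotEquivOfEqBot _ (LinearMap.range_eq_bot.2
        (LinearMap.ext fun y => Subtype.ext (he0 y)))).symm.trans eq.symm)
    have : Module.Flat R (S.W N hdE) := Module.Flat.of_flat_tensorProduct R _ B
    exact Module.Flat.projective_of_finitePresentation

include hnis hdE hdP hPhi hPlo hPgen hh hs hi in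
theorem Stage.step {j : ℤ} (S : Stage R N dE (j + 1)) (b : ℤ)
    (hb : ∀ l, b < l → Subsingleton (E l)) : Nonempty (Stage R N dE j) := by
  obtain ⟨⟨π, hπ⟩, -⟩ := S.surjection_W N hnis hdE hdP hPhi hPlo hPgen hh hs hi b hb
  obtain ⟨L, hL⟩ := Module.projective_lifting_property (Submodule.mkQ _) π
    (Submodule.mkQ_surjective _)
  let dn : Qf R N (j + 1 + 1) →ₗ[R] Qf R N (j + 1 + 1 + 1) :=
    -(LinearMap.fst R _ _ ∘ₗ Submodule.subtype _ ∘ₗ L)
  let ψn : Qf R N (j + 1 + 1) →ₗ[R] E (j + 1 + 1) :=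
    LinearMap.snd R _ _ ∘ₗ Submodule.subtype _ ∘ₗ L
  let dQ' := Function.update S.dQ (j + 1 + 1) dn
  let ψ' := Function.update S.ψ (j + 1 + 1) ψn
  have d1 : dQ' (j + 1 + 1) = dn := Function.update_self ..
  have p1 : ψ' (j + 1 + 1) = ψn := Function.update_self ..
  have d2 : ∀ l, l ≠ j + 1 + 1 → dQ' l = S.dQ l := fun l hl => Function.update_of_ne hl ..
  have p2 : ∀ l, l ≠ j + 1 + 1 → ψ' l = S.ψ l := fun l hl => Function.update_of_ne hl ..
  have hL0 : ∀ x, S.dQ (j + 1 + 1 + 1) ((L x).1.1) = 0 ∧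
      S.ψ (j + 1 + 1 + 1) (L x).1.1 + dE (j + 1 + 1) (L x).1.2 = 0 := fun x => by
    have h0 := LinearMap.mem_ker.1 (L x).2
    exact ⟨neg_eq_zero.1 (congrArg Prod.fst h0), congrArg Prod.snd h0⟩
  refine ⟨⟨dQ', ψ', fun l hl => (d2 l (by omega)).trans (S.dQ_zero l (by omega)),
    fun l hl => (p2 l (by omega)).trans (S.ψ_zero l (by omega)), fun l x => ?_, fun l x => ?_,
    fun l hl z hz => ?_⟩⟩
  · by_cases h1 : l = j + 1 + 1
    · subst h1
      rw [d1, d2 (j + 1 + 1 + 1) (by omega)]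
      simp [dn, (hL0 x).1]
    · rw [d2 l h1]
      by_cases h2 : l + 1 = j + 1 + 1
      · simp [S.dQ_zero l (by omega)]
      · rw [d2 (l + 1) h2, S.dd]
  · by_cases h1 : l = j + 1 + 1
    · subst h1
      rw [d1, p1, p2 (j + 1 + 1 + 1) (by omega)]
      simp only [dn, ψn, LinearMap.neg_apply, map_neg, LinearMap.comp_apply]
      exact neg_eq_of_add_eq_zero_right (hL0 x).2
    · rw [d2 l h1, p2 l h1]
      by_cases h2 : l + 1 = j + 1 + 1
      · simp [S.dQ_zero l (by omega), S.ψ_zero l (by omega)]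
      · rw [p2 (l + 1) h2, S.comm]
  · have hsame : ∀ l, l ≠ j + 1 → coneD dQ' dE ψ' l = coneD S.dQ dE S.ψ l := fun l hl' => by
      unfold coneD
      rw [d2 (l + 1) (by omega), p2 (l + 1) (by omega)]
    rw [hsame (l + 1) (by omega)] at hz
    by_cases h1 : l = j + 1
    · subst h1
      obtain ⟨y, hy⟩ := hπ (Submodule.Quotient.mk ⟨z, hz⟩)
      rw [← hL] at hy
      obtain ⟨⟨q, f⟩, hf⟩ := (Submodule.Quotient.eq _).1 hy.symm
      refine ⟨(y, f), ?_⟩
      have hf' : coneD S.dQ dE S.ψ (j + 1) (q, f) = z - (L y).1 := congrArg Subtype.val hf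
      rw [coneD_apply, S.dQ_zero _ le_rfl, S.ψ_zero _ le_rfl] at hf'
      rw [coneD_apply, d1, p1, eq_add_of_sub_eq' hf'.symm]
      simp [dn, ψn, Prod.ext_iff]
    · obtain ⟨w, hw⟩ := S.exact l (by omega) z hz
      exact ⟨w, by rw [hsame l h1]; exact hw⟩

include hnis hdE hdP hPhi hPlo hPgen hh hs hi in
theorem exists_stage (b : ℤ) (hb : ∀ l, b < l → Subsingleton (E l)) (j : ℤ) :
    Nonempty (Stage R N dE j) := by
  suffices H : ∀ (n : ℕ) (j : ℤ), max (N : ℤ) b ≤ j + n → Nonempty (Stage R N dE j) from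
    H (max (N : ℤ) b - j).toNat j (by omega)
  intro n
  induction n with
  | zero =>
    intro j hj
    refine ⟨⟨fun _ => 0, fun _ => 0, fun _ _ => rfl, fun _ _ => rfl, fun _ _ => rfl,
      fun _ _ => by simp, fun l hl z _ => ⟨0, ?_⟩⟩⟩
    have := subsingleton_Qf (R := R) N (l := l + 1 + 1) (by omega)
    have := hb (l + 1) (by omega)
    exact Subsingleton.elim _ _
  | succ n ih =>
    intro j hj
    obtain ⟨S⟩ := ih (j + 1) (by push_cast at hj; omega)
    exact S.step N hnis hdE hdP hPhi hPlo hPgen hh hs hi b hb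

include hnis hdP hdE hPhi hPlo hPgen hh hs hi in
/-- A quasi-isomorphic complex of projective modules of bounded size. -/
theorem exists_model (b : ℤ) (hb : ∀ l, b < l → Subsingleton (E l)) :
    ∃ (p : ∀ l, Submodule R (Qf R N l)) (dQ : ∀ l, Qf R N l →ₗ[R] Qf R N (l + 1))
      (ψ : ∀ l, Qf R N l →ₗ[R] E l),
      (∀ l, Module.Projective R (p l)) ∧
      (∀ l, ∃ π : Qf R N l →ₗ[R] p l, Function.Surjective π) ∧
      (∀ l, l < -(N : ℤ) - 1 → p l = ⊥) ∧
      (∀ l, ∀ x ∈ p l, dQ l x ∈ p (l + 1)) ∧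
      (∀ l x, dQ (l + 1) (dQ l x) = 0) ∧
      (∀ l x, ψ (l + 1) (dQ l x) = dE l (ψ l x)) ∧
      (∀ l, ∀ x ∈ p (l + 1 + 1), ∀ e, coneD dQ dE ψ (l + 1) (x, e) = 0 →
        ∃ y ∈ p (l + 1), ∃ f, coneD dQ dE ψ l (y, f) = (x, e)) := by
  obtain ⟨j, hj⟩ : ∃ j : ℤ, j + 1 + 1 = -(N : ℤ) := ⟨-(N : ℤ) - 1 - 1, by omega⟩
  obtain ⟨S⟩ := exists_stage N hnis hdE hdP hPhi hPlo hPgen hh hs hi b hb j
  obtain ⟨⟨π, hπ⟩, hproj⟩ := S.surjection_W N hnis hdE hdP hPhi hPlo hPgen hh hs hi b hb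
  have hWp := hproj (by omega)
  obtain ⟨σ, hσ⟩ := Module.projective_lifting_property π LinearMap.id hπ
  have hσ' : ∀ w, π (σ w) = w := LinearMap.congr_fun hσ
  obtain ⟨L, hL⟩ := Module.projective_lifting_property (Submodule.mkQ _) π
    (Submodule.mkQ_surjective _)
  let dn : Qf R N (j + 1) →ₗ[R] Qf R N (j + 1 + 1) :=
    -(LinearMap.fst R _ _ ∘ₗ Submodule.subtype _ ∘ₗ L)
  let ψn : Qf R N (j + 1) →ₗ[R] E (j + 1) :=
    LinearMap.snd R _ _ ∘ₗ Submodule.subtype _ ∘ₗ L
  let dQ' := Function.update S.dQ (j + 1) dn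
  let ψ' := Function.update S.ψ (j + 1) ψn
  let p : ∀ l, Submodule R (Qf R N l) :=
    Function.update (fun l => if l ≤ j + 1 then ⊥ else ⊤) (j + 1) (LinearMap.range σ)
  have d1 : dQ' (j + 1) = dn := Function.update_self ..
  have q1 : ψ' (j + 1) = ψn := Function.update_self ..
  have p1 : p (j + 1) = LinearMap.range σ := Function.update_self ..
  have d2 : ∀ l, l ≠ j + 1 → dQ' l = S.dQ l := fun l hl => Function.update_of_ne hl ..
  have q2 : ∀ l, l ≠ j + 1 → ψ' l = S.ψ l := fun l hl => Function.update_of_ne hl ..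
  have pbot : ∀ l, l ≤ j → p l = ⊥ := fun l hl => by
    simp [p, Function.update_of_ne (show l ≠ j + 1 by omega), show l ≤ j + 1 by omega]
  have ptop : ∀ l, j + 1 < l → p l = ⊤ := fun l hl => by
    simp [p, Function.update_of_ne (show l ≠ j + 1 by omega), show ¬ l ≤ j + 1 by omega]
  have hL0 : ∀ x, S.dQ (j + 1 + 1) ((L x).1.1) = 0 ∧
      S.ψ (j + 1 + 1) (L x).1.1 + dE (j + 1) (L x).1.2 = 0 := fun x => by
    have h0 := LinearMap.mem_ker.1 (L x).2
    exact ⟨neg_eq_zero.1 (congrArg Prod.fst h0), congrArg Prod.snd h0⟩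
  refine ⟨p, dQ', ψ', fun l => ?_, fun l => ?_, fun l hl => pbot l (by omega), fun l x hx => ?_,
    fun l x => ?_, fun l x => ?_, fun l x hx e hz => ?_⟩
  · rcases lt_trichotomy l (j + 1) with h1 | rfl | h1
    · rw [pbot l (by omega)]; infer_instance
    · rw [p1]
      exact Module.Projective.of_equiv
        (LinearEquiv.ofInjective σ fun a b hab => by rw [← hσ' a, hab, hσ'])
    · rw [ptop l h1]; exact Module.Projective.of_equiv Submodule.topEquiv.symm
  · rcases lt_trichotomy l (j + 1) with h1 | rfl | h1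
    · rw [pbot l (by omega)]; exact ⟨0, fun y => ⟨0, Subsingleton.elim _ _⟩⟩
    · rw [p1]
      exact ⟨σ.rangeRestrict ∘ₗ π, σ.surjective_rangeRestrict.comp hπ⟩
    · rw [ptop l h1]; exact ⟨Submodule.topEquiv.symm.toLinearMap, Submodule.topEquiv.symm.surjective⟩
  · by_cases h1 : j + 1 < l + 1
    · rw [ptop _ h1]; trivial
    · rw [d2 l (by omega), S.dQ_zero l (by omega)]; exact zero_mem _
  · by_cases h1 : l = j + 1
    · subst h1
      rw [d1, d2 (j + 1 + 1) (by omega)]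
      simp [dn, (hL0 x).1]
    · rw [d2 l h1]
      by_cases h2 : l + 1 = j + 1
      · simp [S.dQ_zero l (by omega)]
      · rw [d2 (l + 1) h2, S.dd]
  · by_cases h1 : l = j + 1
    · subst h1
      rw [d1, q1, q2 (j + 1 + 1) (by omega)]
      simp only [dn, ψn, LinearMap.neg_apply, map_neg, LinearMap.comp_apply]
      exact neg_eq_of_add_eq_zero_right (hL0 x).2
    · rw [d2 l h1, q2 l h1]
      by_cases h2 : l + 1 = j + 1
      · simp [S.dQ_zero l (by omega), S.ψ_zero l (by omega)]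
      · rw [q2 (l + 1) h2, S.comm]
  · have hsame : ∀ l, l ≠ j → coneD dQ' dE ψ' l = coneD S.dQ dE S.ψ l := fun l hl' => by
      unfold coneD
      rw [d2 (l + 1) (by omega), q2 (l + 1) (by omega)]
    -- `E` is exact in low degrees
    have hEex : ∀ l, l < j + 1 → ∀ e, dE (l + 1) e = 0 → ∃ f, dE l f = e := fun l hl e he => by
      have hff : Module.FaithfullyFlat R B := faithfullyFlat_of_nis hnis
      have hexB : Function.Exact ((dE l).lTensor B) ((dE (l + 1)).lTensor B) := fun u =>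
        ⟨fun hu => by
          have := hPlo (l + 1) (by omega)
          obtain ⟨f, hf⟩ := hi l u hu 0 (Subsingleton.elim _ _)
          exact ⟨f, hf⟩, by
          rintro ⟨w, rfl⟩
          rw [← LinearMap.lTensor_comp_apply, show dE (l + 1) ∘ₗ dE l = 0 from
            LinearMap.ext (hdE l), LinearMap.lTensor_zero, LinearMap.zero_apply]⟩
      exact (Module.FaithfullyFlat.lTensor_reflects_exact R B _ _ hexB e).1 he
    rcases lt_trichotomy l j with h1 | rfl | h1
    · -- below: `x = 0`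
      have hx0 : x = 0 := by
        by_cases h2 : l + 1 = j
        · subst h2
          rw [p1] at hx
          obtain ⟨w, rfl⟩ := hx
          rw [coneD_apply, d1, q1] at hz
          have hz' : (L (σ w)).1 + (coneD S.dQ dE S.ψ (l + 1) (0, e)) = 0 := by
            simpa [dn, ψn, coneD_apply, Prod.ext_iff] using hz
          have h3 : π (σ w) = 0 := by
            rw [← hL]
            refine (Submodule.Quotient.mk_eq_zero _).2 ⟨-(0, e), Subtype.ext ?_⟩
            show coneD S.dQ dE S.ψ (l + 1) (-(0, e)) = _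
            rw [map_neg]
            exact (eq_neg_of_add_eq_zero_left hz').symm
          rw [hσ'] at h3
          rw [h3, map_zero]
        · rw [pbot _ (by omega)] at hx
          exact hx
      subst hx0
      simp [coneD_apply] at hz
      obtain ⟨f, hf⟩ := hEex l (by omega) e hz
      exact ⟨0, zero_mem _, f, by simp [coneD_apply, hf]⟩
    · rw [hsame (l + 1) (by omega)] at hz
      let q : S.W N hdE := Submodule.Quotient.mk ⟨(x, e), hz⟩
      have hq : q = Submodule.Quotient.mk (L (σ q)) :=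
        (hσ' q).symm.trans (LinearMap.congr_fun hL (σ q)).symm
      obtain ⟨⟨q', f⟩, hf⟩ := (Submodule.Quotient.eq _).1 hq
      refine ⟨σ q, p1.symm ▸ LinearMap.mem_range_self σ q, f, ?_⟩
      have hf' : coneD S.dQ dE S.ψ l (q', f) = (x, e) - (L (σ q)).1 := congrArg Subtype.val hf
      rw [coneD_apply, S.dQ_zero _ le_rfl, S.ψ_zero _ le_rfl] at hf'
      rw [coneD_apply, d1, q1, eq_add_of_sub_eq' hf'.symm]
      simp [dn, ψn, Prod.ext_iff]
    · rw [hsame (l + 1) (by omega)] at hz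
      obtain ⟨⟨y, f⟩, hw⟩ := S.exact l h1 _ hz
      exact ⟨y, (ptop (l + 1) (by omega)).symm ▸ trivial, f, by rw [hsame l (by omega)]; exact hw⟩

end Build

end Groth.PerfSize
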