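import Groth.Prelude.Def_W4c5algebraiztannakaNis
import Mathlib.AlgebraicGeometry.Morphisms.ClosedImmersion
import Mathlib.RingTheory.Flat.FaithfullyFlat.Algebra
import Mathlib.RingTheory.Support
import Mathlib.RingTheory.Nakayama
import Mathlib.LinearAlgebra.TensorProduct.RightExactness

/-! # Generation of finite modules along Nisnevich covers of bounded length -/

set_option autoImplicit false
universe u

open CategoryTheory CategoryTheory.Limits AlgebraicGeometry TensorProduct

namespace Groth.PerfSize

open W4c5algebraiztannaka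

variable {R B : Type u} [CommRing R] [CommRing B] [Algebra R B]

/-- `Spec` of the structure map. -/
noncomputable abbrev specMap (R B : Type u) [CommRing R] [CommRing B] [Algebra R B] :
    Spec (CommRingCat.of B) ⟶ Spec (CommRingCat.of R) :=
  Spec.map (CommRingCat.ofHom (algebraMap R B))

theorem flat_of_nis {N : ℕ} (h : IsNisCoverLen (specMap R B) N) : Module.Flat R B := by
  have := h.etale
  have hf : Flat (specMap R B) := inferInstance
  rw [HasRingHomProperty.Spec_iff (P := @Flat)] at hf
  exact RingHom.flat_algebraMap_iff.1 hf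

theorem subset_range_of_nis {N : ℕ} (h : IsNisCoverLen (specMap R B) N)
    (p : PrimeSpectrum R) : ∃ q : PrimeSpectrum B, PrimeSpectrum.comap (algebraMap R B) q = p := by
  obtain ⟨Z, h0, hN, -, -, hs⟩ := h.flag
  have key : ∀ k, ∀ x ∈ Z k, ∃ q, (specMap R B) q = x := by
    intro k
    induction k using Fin.induction with
    | zero => rw [h0]; simp
    | succ k ih =>
      intro x hx
      by_cases hk : x ∈ Z k.castSucc
      · exact ih x hk
      · obtain ⟨T, g, s, -, hr, rfl⟩ := hs k
        have hx' : x ∈ Z k.succ \ Z k.castSucc := ⟨hx, hk⟩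
        rw [← hr] at hx'
        obtain ⟨t, ht⟩ := hx'
        exact ⟨s t, ht⟩
  exact key (Fin.last N) p (hN ▸ Set.mem_univ _)

theorem faithfullyFlat_of_nis {N : ℕ} (h : IsNisCoverLen (specMap R B) N) :
    Module.FaithfullyFlat R B :=
  have := flat_of_nis h
  .of_comap_surjective (subset_range_of_nis h)

/-- Over a closed subset of a stratum the cover has a section. -/
theorem exists_algHom_quotient {W : Set (Spec (CommRingCat.of R))} (h : HasSectOver (specMap R B) W)
    (I : Ideal R) (hI : I.IsRadical) (hIW : PrimeSpectrum.zeroLocus (I : Set R) ⊆ W) :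
    Nonempty (B →ₐ[R] R ⧸ I) := by
  obtain ⟨T, g, s, hg, hr, hsg⟩ := h
  let i : Spec (CommRingCat.of (R ⧸ I)) ⟶ Spec (CommRingCat.of R) :=
    Spec.map (CommRingCat.ofHom (Ideal.Quotient.mk I))
  have hsurj : Surjective (pullback.snd g i) := by
    refine ⟨fun c => ?_⟩
    have hc : i c ∈ W := hIW (by
      intro r hr'
      show Ideal.Quotient.mk I r ∈ c.asIdeal
      rw [Ideal.Quotient.eq_zero_iff_mem.2 hr']
      exact zero_mem _)
    rw [← hr] at hc
    obtain ⟨t, ht⟩ := hc
    obtain ⟨z, -, hz⟩ := Scheme.Pullback.exists_preimage_pullback t c ht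
    exact ⟨z, hz⟩
  have hci : IsClosedImmersion (pullback.snd g i) :=
    .of_isPreimmersion _ (by rw [hsurj.surj.range_eq]; exact isClosed_univ)
  have : _root_.IsReduced (R ⧸ I) := (Ideal.isRadical_iff_quotient_reduced I).1 hI
  have : IsIso (pullback.snd g i) := isIso_of_isClosedImmersion_of_surjective _
  let l : Spec (CommRingCat.of (R ⧸ I)) ⟶ Spec (CommRingCat.of B) :=
    inv (pullback.snd g i) ≫ pullback.fst g i ≫ s
  have hl : l ≫ specMap R B = i := by
    simp only [l, Category.assoc, hsg, pullback.condition, IsIso.inv_hom_id_assoc]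
  obtain ⟨χ, hχ⟩ : ∃ χ, Spec.map χ = l := ⟨Spec.preimage l, Spec.map_preimage l⟩
  have hcomp : CommRingCat.ofHom (algebraMap R B) ≫ χ = CommRingCat.ofHom (Ideal.Quotient.mk I) :=
    Spec.map_injective (by rw [Spec.map_comp, hχ]; exact hl)
  exact ⟨{ χ.hom with commutes' := fun r => congr(($hcomp).hom r) }⟩

/-- The inductive statement along the flag. -/
theorem exists_span_compl {N : ℕ} (h : IsNisCoverLen (specMap R B) N)
    (W : Type u) [AddCommGroup W] [Module R W] [Module.Finite R W] (c : ℕ)
    (g : (Fin c → B) →ₗ[B] B ⊗[R] W) (hg : Function.Surjective g) :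
    ∃ n, n ≤ N * c ∧ ∃ v : Fin n → W, Submodule.span R (Set.range v) = ⊤ := by
  obtain ⟨Z, h0, hN, -, hcl, hs⟩ := h.flag
  suffices H : ∀ k : Fin (N + 1), ∃ v : Fin ((k : ℕ) * c) → W,
      ∀ p : PrimeSpectrum R, p ∈ Z k →
        p ∉ Module.support R (W ⧸ Submodule.span R (Set.range v)) by
    obtain ⟨v, hv⟩ := H (Fin.last N)
    refine ⟨N * c, le_rfl, v, ?_⟩
    have he : Module.support R (W ⧸ Submodule.span R (Set.range v)) = ∅ :=
      Set.eq_empty_iff_forall_notMem.2 fun p => hv p (hN ▸ Set.mem_univ _)
    rw [Module.support_eq_empty_iff] at he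
    exact Submodule.Quotient.subsingleton_iff.1 he
  intro k
  induction k using Fin.induction with
  | zero =>
    exact ⟨fun _ => 0, fun p hp => absurd (h0 ▸ hp : p ∈ (∅ : Set _)) (Set.notMem_empty p)⟩
  | succ k ih =>
    obtain ⟨v, hv⟩ := ih
    let S := Submodule.span R (Set.range v)
    let V := W ⧸ S
    let Cs : Set (PrimeSpectrum R) := Module.support R V ∩ Z k.succ
    have hCcl : IsClosed Cs :=
      ((Module.support_eq_zeroLocus (R := R) (M := V)) ▸ PrimeSpectrum.isClosed_zeroLocus _).inter
        (hcl k.succ).1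
    let I : Ideal R := PrimeSpectrum.vanishingIdeal Cs
    have hZI : PrimeSpectrum.zeroLocus (I : Set R) = Cs := by
      rw [PrimeSpectrum.zeroLocus_vanishingIdeal_eq_closure, hCcl.closure_eq]
    obtain ⟨χ⟩ := exists_algHom_quotient (hs k) I (PrimeSpectrum.isRadical_vanishingIdeal Cs) (by
      rw [hZI]
      exact fun p hp => ⟨hp.2, fun hk => hv p hk hp.1⟩)
    -- the images of the `c` generators generate `V / I V`
    let mk : W →ₗ[R] V := S.mkQ
    have hχ : Function.Surjective χ := fun y => by
      obtain ⟨r, rfl⟩ := Ideal.Quotient.mk_surjective y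
      exact ⟨algebraMap R B r, χ.commutes r⟩
    let Φ : B ⊗[R] W →ₗ[R] (R ⧸ I) ⊗[R] V := TensorProduct.map χ.toLinearMap mk
    have hΦ : Function.Surjective Φ :=
      TensorProduct.map_surjective hχ S.mkQ_surjective
    have hΦs : ∀ (b : B) (x : B ⊗[R] W), Φ (b • x) = χ b • Φ x := by
      intro b x
      induction x using TensorProduct.induction_on with
      | zero => simp
      | tmul b' w =>
        simp [Φ, smul_tmul', map_mul]
      | add x y hx hy => simp only [smul_add, map_add, hx, hy]
    let E : ((R ⧸ I) ⊗[R] V) ≃ₗ[R] V ⧸ (I • ⊤ : Submodule R V) := quotTensorEquivQuotSMul V I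
    have hchoose : ∀ t : Fin c, ∃ w : W, Submodule.mkQ (I • ⊤ : Submodule R V) (mk w) =
        E (Φ (g (fun u => if u = t then 1 else 0))) := fun t => by
      obtain ⟨y, hy⟩ := Submodule.mkQ_surjective (I • ⊤ : Submodule R V)
        (E (Φ (g (fun u => if u = t then 1 else 0))))
      obtain ⟨w, rfl⟩ := S.mkQ_surjective y
      exact ⟨w, hy⟩
    choose w hw using hchoose
    have hlen : ((k.succ : Fin (N + 1)) : ℕ) * c = (k.castSucc : ℕ) * c + c := by
      simp [Nat.succ_mul]
    let v' : Fin ((k.castSucc : ℕ) * c + c) → W := Fin.append v w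
    refine ⟨v' ∘ Fin.cast hlen, fun p hp hpS => ?_⟩
    rw [Set.range_comp, Set.range_eq_univ.2 (fun i => ⟨Fin.cast hlen.symm i, rfl⟩),
      Set.image_univ] at hpS
    let S' := Submodule.span R (Set.range v')
    have hSS' : S ≤ S' := Submodule.span_mono fun x ⟨i, hi⟩ =>
      ⟨Fin.castAdd c i, by simpa [v'] using hi⟩
    have hpV : p ∈ Module.support R V :=
      Module.support_subset_of_surjective (Submodule.factor hSS')
        (Submodule.factor_surjective hSS') hpS
    have hpI : p ∈ PrimeSpectrum.zeroLocus (I : Set R) := hZI ▸ ⟨hpV, hp⟩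
    -- Nakayama
    let U := W ⧸ S'
    let q : V →ₗ[R] U := Submodule.factor hSS'
    have hgen : (⊤ : Submodule R U) ≤ I • ⊤ := by
      intro x _
      obtain ⟨y, rfl⟩ := Submodule.factor_surjective hSS' x
      -- all of `V` is `I V` modulo the new generators
      have h1 : ∀ z : V ⧸ (I • ⊤ : Submodule R V), z ∈ Submodule.map (I • ⊤ : Submodule R V).mkQ
          (Submodule.span R (Set.range fun t => mk (w t))) := by
        intro z
        obtain ⟨z1, rfl⟩ := E.surjective z
        obtain ⟨z2, rfl⟩ := hΦ z1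
        obtain ⟨z3, rfl⟩ := hg z2
        have hz3 : z3 = ∑ t, z3 t • (fun u => if u = t then (1 : B) else 0) := by
          funext u; simp
        rw [hz3, map_sum, map_sum, map_sum]
        refine Submodule.sum_mem _ fun t _ => ?_
        obtain ⟨r, hr⟩ := Ideal.Quotient.mk_surjective (χ (z3 t))
        rw [map_smul, hΦs, ← hr, ← Ideal.Quotient.algebraMap_eq, algebraMap_smul, map_smul]
        refine Submodule.smul_mem _ r ⟨mk (w t), Submodule.subset_span ⟨t, rfl⟩, hw t⟩
      obtain ⟨z, hz, hz'⟩ := h1 (Submodule.Quotient.mk y)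
      have hd : y - z ∈ (I • ⊤ : Submodule R V) := by
        rw [← Submodule.Quotient.eq]; exact hz'.symm
      have hqz : q z = 0 := by
        refine Submodule.span_induction ?_ (map_zero q) (fun a b _ _ ha hb => by simp [ha, hb])
          (fun r a _ ha => by simp [ha]) hz
        rintro _ ⟨t, rfl⟩
        exact (Submodule.Quotient.mk_eq_zero S').2
          (Submodule.subset_span ⟨Fin.natAdd _ t, by simp [v']⟩)
      have hq : q y = q (y - z) := by rw [map_sub, hqz, sub_zero]
      show q y ∈ _
      rw [hq]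
      have := Submodule.mem_map_of_mem (f := q) hd
      rw [Submodule.map_smul''] at this
      exact Submodule.smul_mono le_rfl le_top this
    obtain ⟨r, hr1, hr2⟩ :=
      Submodule.exists_sub_one_mem_and_smul_eq_zero_of_fg_of_le_smul I ⊤ Module.Finite.fg_top hgen
    have hrp : r ∈ p.asIdeal := by
      refine Module.annihilator_le_of_mem_support hpS (Module.mem_annihilator.2 fun m => hr2 m trivial)
    have h1p : (1 : R) ∈ p.asIdeal := by
      have := p.asIdeal.sub_mem hrp (hpI hr1)
      simpa using this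
    exact p.2.ne_top ((Ideal.eq_top_iff_one _).2 h1p)

/-- A finite module generated by `c` elements on a Nisnevich cover of length `N` is generated by
`N * c` elements. -/
theorem exists_surjective_of_nis {N : ℕ} (h : IsNisCoverLen (specMap R B) N)
    (W : Type u) [AddCommGroup W] [Module R W] [Module.Finite R W] (c : ℕ)
    (g : (Fin c → B) →ₗ[B] B ⊗[R] W) (hg : Function.Surjective g) (M : ℕ) (hM : N * c ≤ M) :
    ∃ π : (Fin M → R) →ₗ[R] W, Function.Surjective π := by
  obtain ⟨n, hn, v, hv⟩ := exists_span_compl h W c g hg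
  obtain ⟨e, rfl⟩ : ∃ e, M = n + e := ⟨M - n, by omega⟩
  refine ⟨Fintype.linearCombination R (Fin.append v (fun _ : Fin e => (0 : W))), ?_⟩
  rw [← LinearMap.range_eq_top, Fintype.range_linearCombination, eq_top_iff, ← hv]
  exact Submodule.span_mono fun x ⟨i, hi⟩ => ⟨Fin.castAdd _ i, by simpa using hi⟩

end Groth.PerfSize
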