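import Groth.Agent.PerfSize.Generation

/-! # Generators along a flag of closed subsets -/

set_option autoImplicit false
universe u

namespace Groth.PerfSize

variable {R : Type u} [CommRing R]

/-- If on every closed subset of every stratum of a flag of length `m` the module is generated by
`c` elements, then it is generated by `c * m` elements. -/
theorem exists_span_flag {m : ℕ} (Z : Fin (m + 1) → Set (PrimeSpectrum R)) (h0 : Z 0 = ∅)
    (hm : Z (Fin.last m) = Set.univ) (hcl : ∀ k, IsClosed (Z k))
    (W : Type u) [AddCommGroup W] [Module R W] [Module.Finite R W] (c : ℕ)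
    (hgen : ∀ (k : Fin m) (I : Ideal R), I.IsRadical →
      PrimeSpectrum.zeroLocus (I : Set R) ⊆ Z k.succ \ Z k.castSucc →
        ∃ w : Fin c → W, Submodule.span R (Set.range w) ⊔ I • (⊤ : Submodule R W) = ⊤) :
    ∃ v : Fin (c * m) → W, Submodule.span R (Set.range v) = ⊤ := by
  suffices H : ∀ k : Fin (m + 1), ∃ v : Fin (c * k) → W,
      ∀ p : PrimeSpectrum R, p ∈ Z k →
        p ∉ Module.support R (W ⧸ Submodule.span R (Set.range v)) by
    obtain ⟨v, hv⟩ := H (Fin.last m)
    refine ⟨v, ?_⟩
    have he : Module.support R (W ⧸ Submodule.span R (Set.range v)) = ∅ :=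
      Set.eq_empty_iff_forall_notMem.2 fun p => hv p (hm ▸ Set.mem_univ _)
    rw [Module.support_eq_empty_iff] at he
    exact Submodule.Quotient.subsingleton_iff.1 he
  intro k
  induction k using Fin.induction with
  | zero =>
    exact ⟨fun _ => 0, fun p hp => absurd (h0 ▸ hp : p ∈ (∅ : Set _)) (Set.notMem_empty p)⟩
  | succ k ih =>
    obtain ⟨v, hv⟩ := ih
    let V := W ⧸ Submodule.span R (Set.range v)
    let Cs : Set (PrimeSpectrum R) := Module.support R V ∩ Z k.succ
    have hCcl : IsClosed Cs :=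
      ((Module.support_eq_zeroLocus (R := R) (M := V)) ▸ PrimeSpectrum.isClosed_zeroLocus _).inter
        (hcl k.succ)
    let I : Ideal R := PrimeSpectrum.vanishingIdeal Cs
    have hZI : PrimeSpectrum.zeroLocus (I : Set R) = Cs := by
      rw [PrimeSpectrum.zeroLocus_vanishingIdeal_eq_closure, hCcl.closure_eq]
    obtain ⟨w, hw⟩ := hgen k I (PrimeSpectrum.isRadical_vanishingIdeal Cs) (by
      rw [hZI]; exact fun p hp => ⟨hp.2, fun hk => hv p hk hp.1⟩)
    have hlen : c * ((k.succ : Fin (m + 1)) : ℕ) = c * (k.castSucc : ℕ) + c := by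
      simp [Nat.mul_succ]
    let v' : Fin (c * (k.castSucc : ℕ) + c) → W := Fin.append v w
    refine ⟨v' ∘ Fin.cast hlen, fun p hp hpS => ?_⟩
    rw [Set.range_comp, Set.range_eq_univ.2 (fun i => ⟨Fin.cast hlen.symm i, rfl⟩),
      Set.image_univ] at hpS
    let S' := Submodule.span R (Set.range v')
    have hSS' : Submodule.span R (Set.range v) ≤ S' := Submodule.span_mono fun x ⟨i, hi⟩ =>
      ⟨Fin.castAdd c i, by simpa [v'] using hi⟩
    have hwS' : Submodule.span R (Set.range w) ≤ S' := Submodule.span_mono fun x ⟨i, hi⟩ =>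
      ⟨Fin.natAdd _ i, by simpa [v'] using hi⟩
    have hpV : p ∈ Module.support R V :=
      Module.support_subset_of_surjective (Submodule.factor hSS')
        (Submodule.factor_surjective hSS') hpS
    have hpI : p ∈ PrimeSpectrum.zeroLocus (I : Set R) := hZI ▸ ⟨hpV, hp⟩
    have hgen' : (⊤ : Submodule R (W ⧸ S')) ≤ I • ⊤ := by
      intro q _
      obtain ⟨x, rfl⟩ := Submodule.mkQ_surjective S' q
      obtain ⟨y, hy, z, hz, rfl⟩ := Submodule.mem_sup.1 (hw.symm ▸ Submodule.mem_top (x := x) :
        x ∈ Submodule.span R (Set.range w) ⊔ I • (⊤ : Submodule R W))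
      rw [map_add, Submodule.mkQ_apply, Submodule.mkQ_apply,
        (Submodule.Quotient.mk_eq_zero S').2 (hwS' hy), zero_add]
      have := Submodule.mem_map_of_mem (f := S'.mkQ) hz
      rw [Submodule.map_smul''] at this
      exact Submodule.smul_mono le_rfl le_top this
    obtain ⟨r, hr1, hr2⟩ :=
      Submodule.exists_sub_one_mem_and_smul_eq_zero_of_fg_of_le_smul I ⊤ Module.Finite.fg_top hgen'
    have hrp : r ∈ p.asIdeal :=
      Module.annihilator_le_of_mem_support hpS (Module.mem_annihilator.2 fun m => hr2 m trivial)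
    have h1p : (1 : R) ∈ p.asIdeal := by
      have := p.asIdeal.sub_mem hrp (hpI hr1)
      simpa using this
    exact p.2.ne_top ((Ideal.eq_top_iff_one _).2 h1p)

end Groth.PerfSize

namespace Groth.PerfSize

open CategoryTheory CategoryTheory.Limits AlgebraicGeometry

/-- Over a reduced closed subscheme inside a stratum the cover has a section. -/
theorem exists_lift_quotient {R : CommRingCat.{u}} {U : Scheme.{u}} (f : U ⟶ Spec R)
    {W : Set (Spec R)} (h : W4c5algebraiztannaka.HasSectOver f W)
    (I : Ideal R) (hI : I.IsRadical) (hIW : PrimeSpectrum.zeroLocus (I : Set R) ⊆ W) :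
    ∃ l : Spec (CommRingCat.of (R ⧸ I)) ⟶ U,
      l ≫ f = Spec.map (CommRingCat.ofHom (Ideal.Quotient.mk I)) := by
  obtain ⟨T, g, s, hg, hr, hsg⟩ := h
  let i : Spec (CommRingCat.of (R ⧸ I)) ⟶ Spec R :=
    Spec.map (CommRingCat.ofHom (Ideal.Quotient.mk I))
  have hsurj : Surjective (pullback.snd g i) := by
    refine ⟨fun c => ?_⟩
    have hc : i c ∈ W := hIW (by
      intro r hr'
      show Ideal.Quotient.mk I r ∈ c.asIdeal
      rw [Ideal.Quotient.eq_zero_iff_mem.2 hr']
      exact zero_mem _)
    rw [← hr] at hc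
    obtain ⟨t, ht⟩ := hc
    obtain ⟨z, -, hz⟩ := Scheme.Pullback.exists_preimage_pullback t c ht
    exact ⟨z, hz⟩
  have hci : IsClosedImmersion (pullback.snd g i) :=
    .of_isPreimmersion _ (by rw [hsurj.surj.range_eq]; exact isClosed_univ)
  have : _root_.IsReduced (R ⧸ I) := (Ideal.isRadical_iff_quotient_reduced I).1 hI
  have : IsIso (pullback.snd g i) := isIso_of_isClosedImmersion_of_surjective _
  exact ⟨inv (pullback.snd g i) ≫ pullback.fst g i ≫ s, by
    simp only [Category.assoc, hsg, pullback.condition, IsIso.inv_hom_id_assoc]; rfl⟩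

end Groth.PerfSize
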